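import Mathlib.LinearAlgebra.StdBasis
import Mathlib.LinearAlgebra.Basis.VectorSpace
import Mathlib.LinearAlgebra.Basis.Bilinear
import Mathlib.Tactic.Abel

/-!
Deformations of associative structure constants: the start of the Hochschild complex in coordinates.
-/

noncomputable section
set_option autoImplicit false
universe u v

namespace Groth.L11.AzLift

variable {S : Type u} [CommRing S] {ι : Type} [Fintype ι] [DecidableEq ι]

/-- Basis vectors. -/
abbrev e (i : ι) : ι → S := Pi.single i 1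

/-- The bilinear map with given structure constants. -/
def LB : (ι × ι × ι → S) →ₗ[S] ((ι → S) →ₗ[S] (ι → S) →ₗ[S] (ι → S)) :=
  ((Pi.basisFun S ι).constr S).toLinearMap ∘ₗ LinearMap.pi fun i =>
    ((Pi.basisFun S ι).constr S).toLinearMap ∘ₗ LinearMap.pi fun j =>
      LinearMap.funLeft S S fun o => (i, j, o)

/-- The trilinear map with given structure constants. -/
def LT : (ι × ι × ι × ι → S) →ₗ[S] ((ι → S) →ₗ[S] (ι → S) →ₗ[S] (ι → S) →ₗ[S] (ι → S)) :=
  ((Pi.basisFun S ι).constr S).toLinearMap ∘ₗ LinearMap.pi fun i =>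
    LB ∘ₗ LinearMap.funLeft S S fun q => (i, q)

theorem LB_basis (μ : ι × ι × ι → S) (i j : ι) : LB μ (e i) (e j) = fun o => μ (i, j, o) := by
  have hb : ∀ i, (e i : ι → S) = Pi.basisFun S ι i := fun i => (Pi.basisFun_apply S ι i).symm
  rw [hb, hb]
  simp only [LB, LinearMap.comp_apply, LinearEquiv.coe_coe, Module.Basis.constr_basis, LinearMap.pi_apply]
  rfl

theorem LT_basis (f : ι × ι × ι × ι → S) (i j l : ι) :
    LT f (e i) (e j) (e l) = fun o => f (i, j, l, o) := by
  have h : LT f (e i) = LB (fun q => f (i, q)) := by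
    rw [show (e i : ι → S) = Pi.basisFun S ι i from (Pi.basisFun_apply S ι i).symm]
    simp only [LT, LinearMap.comp_apply, LinearEquiv.coe_coe, Module.Basis.constr_basis, LinearMap.pi_apply]
    rfl
  rw [h, LB_basis]

theorem LB_apply (μ : ι × ι × ι → S) (x y : ι → S) (o : ι) :
    LB μ x y o = ∑ i, x i * ∑ j, y j * μ (i, j, o) := by
  simp only [LB, LinearMap.comp_apply, LinearEquiv.coe_coe, Module.Basis.constr_apply_fintype,
    Pi.basisFun_equivFun, LinearEquiv.refl_apply, LinearMap.sum_apply, LinearMap.smul_apply,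
    Finset.sum_apply, Pi.smul_apply, smul_eq_mul, LinearMap.pi_apply, LinearMap.funLeft_apply]

theorem LT_apply (f : ι × ι × ι × ι → S) (x y z : ι → S) (o : ι) :
    LT f x y z o = ∑ i, x i * LB (fun q => f (i, q)) y z o := by
  simp only [LT, LinearMap.comp_apply, LinearEquiv.coe_coe, Module.Basis.constr_apply_fintype,
    Pi.basisFun_equivFun, LinearEquiv.refl_apply, LinearMap.sum_apply, LinearMap.smul_apply,
    Finset.sum_apply, Pi.smul_apply, smul_eq_mul, LinearMap.pi_apply]
  rfl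

/-- The bilinear form underlying the associator. -/
def assocBil : (ι × ι × ι → S) →ₗ[S] (ι × ι × ι → S) →ₗ[S] (ι × ι × ι × ι → S) :=
  LinearMap.mk₂ S (fun u v p => LB u (fun o => v (p.1, p.2.1, o)) (e p.2.2.1) p.2.2.2 -
      LB u (e p.1) (fun o => v (p.2.1, p.2.2.1, o)) p.2.2.2)
    (fun u u' v => by ext p; simp only [map_add, LinearMap.add_apply, Pi.add_apply]; abel)
    (fun c u v => by ext p; simp only [map_smul, LinearMap.smul_apply, Pi.smul_apply, smul_sub])
    (fun u v v' => by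
      ext ⟨i, j, l, o⟩
      have h1 : ∀ a b, (fun o => (v + v') (a, b, o)) = (fun o => v (a, b, o)) + fun o => v' (a, b, o) := fun _ _ => rfl
      simp only [h1]
      simp only [map_add, LinearMap.add_apply, Pi.add_apply]; abel)
    (fun c u v => by
      ext ⟨i, j, l, o⟩
      have h1 : ∀ a b, (fun o => (c • v) (a, b, o)) = c • fun o => v (a, b, o) := fun _ _ => rfl
      simp only [h1]
      simp only [map_smul, LinearMap.smul_apply, Pi.smul_apply, smul_sub])

theorem assocBil_slice (u v : ι × ι × ι → S) (i j l : ι) :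
    (fun o => assocBil u v (i, j, l, o)) =
      LB u (LB v (e i) (e j)) (e l) - LB u (e i) (LB v (e j) (e l)) := by
  funext o
  rw [LB_basis, LB_basis]
  rfl

/-- The differential on 3-cochains. -/
def D3 (μ : ι × ι × ι → S) : (ι × ι × ι × ι → S) →ₗ[S] (ι × ι × ι × ι × ι → S) where
  toFun f p :=
    (LB μ (e p.1) (LT f (e p.2.1) (e p.2.2.1) (e p.2.2.2.1)) -
      LT f (LB μ (e p.1) (e p.2.1)) (e p.2.2.1) (e p.2.2.2.1) +
      LT f (e p.1) (LB μ (e p.2.1) (e p.2.2.1)) (e p.2.2.2.1) -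
      LT f (e p.1) (e p.2.1) (LB μ (e p.2.2.1) (e p.2.2.2.1)) +
      LB μ (LT f (e p.1) (e p.2.1) (e p.2.2.1)) (e p.2.2.2.1)) p.2.2.2.2
  map_add' f g := by
    ext p; simp only [map_add, LinearMap.add_apply, Pi.add_apply, Pi.sub_apply]; abel
  map_smul' c f := by
    ext p; simp only [map_smul, LinearMap.smul_apply, Pi.smul_apply, Pi.add_apply, Pi.sub_apply,
      RingHom.id_apply, smul_add, smul_sub]

theorem D3_slice (μ : ι × ι × ι → S) (f : ι × ι × ι × ι → S) (i j l q : ι) :
    (fun o => D3 μ f (i, j, l, q, o)) =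
    LB μ (e i) (LT f (e j) (e l) (e q)) - LT f (LB μ (e i) (e j)) (e l) (e q) +
      LT f (e i) (LB μ (e j) (e l)) (e q) - LT f (e i) (e j) (LB μ (e l) (e q)) +
      LB μ (LT f (e i) (e j) (e l)) (e q) := rfl

theorem LT_assocBil (μ : ι × ι × ι → S) (x y z : ι → S) :
    LT (assocBil μ μ) x y z = LB μ (LB μ x y) z - LB μ x (LB μ y z) := by
  have h1 : ∀ i j z, LT (assocBil μ μ) (e i) (e j) z =
      LB μ (LB μ (e i) (e j)) z - LB μ (e i) (LB μ (e j) z) := by
    intro i j z
    refine LinearMap.congr_fun (g := LB μ (LB μ (e i) (e j)) - LB μ (e i) ∘ₗ LB μ (e j))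
      ((Pi.basisFun S ι).ext fun l => ?_) z
    rw [Pi.basisFun_apply, LT_basis]
    exact assocBil_slice μ μ i j l
  have h2 : ∀ i y z, LT (assocBil μ μ) (e i) y z =
      LB μ (LB μ (e i) y) z - LB μ (e i) (LB μ y z) := by
    intro i y z
    refine LinearMap.congr_fun (f := (LT (assocBil μ μ) (e i)).flip z)
      (g := (LB μ).flip z ∘ₗ LB μ (e i) - LB μ (e i) ∘ₗ (LB μ).flip z)
      ((Pi.basisFun S ι).ext fun j => ?_) y
    rw [Pi.basisFun_apply]
    exact h1 i j z
  refine LinearMap.congr_fun (f := ((LT (assocBil μ μ)).flip y).flip z)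
      (g := (LB μ).flip z ∘ₗ (LB μ).flip y - (LB μ).flip (LB μ y z))
      ((Pi.basisFun S ι).ext fun i => ?_) x
  rw [Pi.basisFun_apply]
  exact h2 i y z

/-- The pentagon identity for the associator of an arbitrary bilinear multiplication. -/
theorem D3_assocBil (μ : ι × ι × ι → S) : D3 μ (assocBil μ μ) = 0 := by
  funext ⟨i, j, l, q, o⟩
  have h := congr_fun (D3_slice μ (assocBil μ μ) i j l q) o
  rw [h]
  simp only [LT_assocBil, map_sub, LinearMap.sub_apply, Pi.add_apply, Pi.sub_apply, Pi.zero_apply]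
  abel

section Nat

variable {T : Type v} [CommRing T] (π : S →+* T)

theorem π_e (i : ι) : π ∘ (e i : ι → S) = e i := by
  funext j
  by_cases h : j = i
  · subst h; simp
  · simp [h]

theorem π_LB (μ : ι × ι × ι → S) (x y : ι → S) : π ∘ LB μ x y = LB (π ∘ μ) (π ∘ x) (π ∘ y) := by
  funext o
  simp only [Function.comp_apply, LB_apply, map_sum, map_mul]

theorem π_LT (f : ι × ι × ι × ι → S) (x y z : ι → S) :
    π ∘ LT f x y z = LT (π ∘ f) (π ∘ x) (π ∘ y) (π ∘ z) := by
  funext o
  simp only [Function.comp_apply, LT_apply, LB_apply, map_sum, map_mul]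

theorem π_assocBil (u v : ι × ι × ι → S) : π ∘ assocBil u v = assocBil (π ∘ u) (π ∘ v) := by
  funext ⟨i, j, l, o⟩
  simp only [assocBil, LinearMap.mk₂_apply, Function.comp_apply, map_sub]
  rw [← Function.comp_apply (f := π), π_LB, ← Function.comp_apply (f := π) (g := LB u (e i) _), π_LB,
    π_e, π_e]
  rfl

theorem π_D3 (μ : ι × ι × ι → S) (f : ι × ι × ι × ι → S) : π ∘ D3 μ f = D3 (π ∘ μ) (π ∘ f) := by
  funext ⟨i, j, l, q, o⟩
  change π ((fun o => D3 μ f (i, j, l, q, o)) o) = (fun o => D3 (π ∘ μ) (π ∘ f) (i, j, l, q, o)) o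
  rw [D3_slice, D3_slice, ← Function.comp_apply (f := π)]
  have hadd : ∀ a b : ι → S, π ∘ (a + b) = π ∘ a + π ∘ b := fun a b => funext fun _ => map_add π _ _
  have hsub : ∀ a b : ι → S, π ∘ (a - b) = π ∘ a - π ∘ b := fun a b => funext fun _ => map_sub π _ _
  simp only [hadd, hsub, π_LB, π_LT, π_e]

end Nat

/-- Exactness at 3-cochains for an associative unital algebra with a separability element. -/
theorem exists_d2_eq (μ : ι × ι × ι → S)
    (hassoc : ∀ x y z, LB μ (LB μ x y) z = LB μ x (LB μ y z))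
    {τ : Type} [Fintype τ] (xs ys : τ → ι → S) (one : ι → S)
    (hone : ∑ t, LB μ (xs t) (ys t) = one) (hmul : ∀ x, LB μ one x = x)
    (hcomm : ∀ (Φ : (ι → S) →ₗ[S] (ι → S) →ₗ[S] (ι → S)) (a : ι → S),
      ∑ t, Φ (LB μ a (xs t)) (ys t) = ∑ t, Φ (xs t) (LB μ (ys t) a))
    (f : ι × ι × ι × ι → S) (hf : D3 μ f = 0) :
    ∃ g, -(assocBil μ g + assocBil g μ) = f := by
  let g : ι × ι × ι → S := fun p => (∑ t, LB μ (xs t) (LT f (ys t) (e p.1) (e p.2.1))) p.2.2
  have hg : ∀ a b, LB g a b = ∑ t, LB μ (xs t) (LT f (ys t) a b) := by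
    have h1 : ∀ i b, LB g (e i) b = ∑ t, LB μ (xs t) (LT f (ys t) (e i) b) := by
      intro i b
      refine (LinearMap.congr_fun (g := ∑ t, LB μ (xs t) ∘ₗ LT f (ys t) (e i))
        ((Pi.basisFun S ι).ext fun j => ?_) b).trans (LinearMap.sum_apply _ _ _)
      rw [Pi.basisFun_apply, LB_basis, LinearMap.sum_apply]
      rfl
    intro a b
    refine (LinearMap.congr_fun (f := (LB g).flip b) (g := ∑ t, LB μ (xs t) ∘ₗ (LT f (ys t)).flip b)
      ((Pi.basisFun S ι).ext fun i => ?_) a).trans (LinearMap.sum_apply _ _ _)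
    rw [Pi.basisFun_apply, LinearMap.sum_apply]
    exact h1 i b
  -- the cocycle identity with an arbitrary first argument
  have hcoc : ∀ y i j l, LT f (LB μ y (e i)) (e j) (e l) =
      LB μ y (LT f (e i) (e j) (e l)) + LT f y (LB μ (e i) (e j)) (e l)
        - LT f y (e i) (LB μ (e j) (e l)) + LB μ (LT f y (e i) (e j)) (e l) := by
    intro y i j l
    refine LinearMap.congr_fun (f := ((LT f).flip (e j)).flip (e l) ∘ₗ (LB μ).flip (e i))
      (g := (LB μ).flip (LT f (e i) (e j) (e l)) + ((LT f).flip (LB μ (e i) (e j))).flip (e l)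
        - ((LT f).flip (e i)).flip (LB μ (e j) (e l))
        + (LB μ).flip (e l) ∘ₗ ((LT f).flip (e i)).flip (e j))
      ((Pi.basisFun S ι).ext fun h => ?_) y
    rw [Pi.basisFun_apply]
    have := D3_slice μ f h i j l
    rw [hf] at this
    simp only [LinearMap.comp_apply, LinearMap.flip_apply, LinearMap.add_apply, LinearMap.sub_apply]
    have h0 : (fun o => (0 : ι × ι × ι × ι × ι → S) (h, i, j, l, o)) = 0 := rfl
    rw [h0] at this
    rw [← sub_eq_zero]
    refine Eq.trans ?_ (neg_eq_zero.mpr this.symm)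
    abel
  refine ⟨g, funext fun ⟨i, j, l, o⟩ => ?_⟩
  have key : -(LB μ (LB g (e i) (e j)) (e l) - LB μ (e i) (LB g (e j) (e l)) +
      (LB g (LB μ (e i) (e j)) (e l) - LB g (e i) (LB μ (e j) (e l)))) =
      LT f (e i) (e j) (e l) := by
    have h3 : LB μ (e i) (LB g (e j) (e l)) = ∑ t, LB μ (xs t) (LT f (LB μ (ys t) (e i)) (e j) (e l)) := by
      rw [hg, map_sum]
      simp only [← hassoc (e i)]
      exact hcomm ((LB μ).compl₂ (((LT f).flip (e j)).flip (e l))) (e i)
    rw [h3]
    simp only [hg, hcoc, map_add, map_sub, map_sum, LinearMap.sum_apply, ← hassoc,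
      Finset.sum_add_distrib, Finset.sum_sub_distrib]
    have h4 : ∑ t, LB μ (LB μ (xs t) (ys t)) (LT f (e i) (e j) (e l)) = LT f (e i) (e j) (e l) := by
      rw [← LinearMap.sum_apply, ← map_sum, hone, hmul]
    rw [h4]
    abel
  have h := congr_fun key o
  rw [LT_basis] at h
  refine Eq.trans ?_ h
  have a := congr_fun (assocBil_slice μ g i j l) o
  have b := congr_fun (assocBil_slice g μ i j l) o
  simp only [Pi.neg_apply, Pi.add_apply, Pi.sub_apply] at a b ⊢
  rw [← a, ← b]

end Groth.L11.AzLift
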