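import Groth.Agent.L11.AzLift.Coords
import Groth.Agent.L05.Hensel.Newton
import Groth.Agent.L11.Az.Fibre
import Mathlib.RingTheory.LocalRing.ResidueField.Basic
import Mathlib.RingTheory.Henselian

/-!
Central simple algebras over the residue field of a henselian local ring lift to Azumaya algebras.
-/

noncomputable section
set_option autoImplicit false
universe u v

open IsLocalRing MvPolynomial TensorProduct MulOpposite

namespace Groth.L11.AzLift

/-- A quadratic system with invertible linear part modulo `I` has a zero along a henselian pair. -/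
theorem exists_zero_quadratic {A : Type u} [CommRing A] (I : Ideal A) [HenselianRing A I]
    {σ : Type} [Fintype σ] [DecidableEq σ]
    (c : σ → A) (hc : ∀ j, c j ∈ I) (L : (σ → A) →ₗ[A] (σ → A))
    (hL : ∀ u j, Ideal.Quotient.mk I (L u j) = - Ideal.Quotient.mk I (u j))
    (Q : (σ → A) →ₗ[A] (σ → A) →ₗ[A] (σ → A)) :
    ∃ u : σ → A, (∀ i, u i ∈ I) ∧ c + L u + Q u u = 0 := by
  let g : σ → MvPolynomial σ A := fun j => C (c j) + ∑ a, C (L (Pi.single a 1) j) * X a +
    ∑ a, ∑ b, C (Q (Pi.single a 1) (Pi.single b 1) j) * (X a * X b)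
  have hg : ∀ u j, eval u (g j) = (c + L u + Q u u) j := by
    intro u j
    have h1 : L u j = ∑ a, u a * L (Pi.single a 1) j := by
      conv_lhs => rw [pi_eq_sum_univ' u]
      simp [map_sum, map_smul]
    have h2 : Q u u j = ∑ a, ∑ b, u a * (u b * Q (Pi.single a 1) (Pi.single b 1) j) := by
      conv_lhs => rw [pi_eq_sum_univ' u]
      simp only [map_sum, map_smul, LinearMap.sum_apply, LinearMap.smul_apply, Finset.sum_apply,
        Pi.smul_apply, smul_eq_mul, Finset.mul_sum]
      rw [Finset.sum_comm]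
      exact Finset.sum_congr rfl fun a _ => Finset.sum_congr rfl fun b _ => by ring
    simp only [g, map_add, map_sum, map_mul, eval_C, eval_X, Pi.add_apply, h1, h2]
    congr 1
    · congr 1; exact Finset.sum_congr rfl fun a _ => mul_comm _ _
    · exact Finset.sum_congr rfl fun a _ => Finset.sum_congr rfl fun b _ => by ring
  have hd : ∀ i j, eval 0 (pderiv i (g j)) = L (Pi.single i 1) j := by
    intro i j
    simp only [g, map_add, map_sum, Derivation.leibniz, pderiv_C, pderiv_X, smul_eq_mul, map_mul,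
      eval_C, eval_X, Pi.zero_apply, zero_mul, mul_zero, add_zero, zero_add,
      map_zero, Finset.sum_const_zero]
    simp [Pi.single_apply, apply_ite, Finset.sum_ite_eq', eq_comm]
  obtain ⟨u, hu, hz⟩ := Groth.L05.exists_zero_of_jacobian I g 0
    (fun j => by rw [hg]; simpa using hc j) (by
      rw [RingHom.map_det, RingHom.map_det]
      have : (RingHom.mapMatrix (Ideal.Quotient.mk I) ((RingHom.mapMatrix (eval (0 : σ → A)))
          (Matrix.of fun i j => pderiv i (g j)))) = -1 := by
        ext i j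
        simp only [RingHom.mapMatrix_apply, Matrix.map_apply, Matrix.of_apply, hd, hL]
        rcases eq_or_ne i j with rfl | h
        · simp
        · simp [h]
      rw [this, Matrix.det_neg, Matrix.det_one, mul_one]
      exact (isUnit_one.neg).pow _)
  exact ⟨u, fun i => by simpa using hu i, funext fun j => by rw [← hg, hz j]; rfl⟩

variable (R : Type u) [CommRing R] [HenselianLocalRing R]

local notation "k" => ResidueField R
local notation "π" => residue R

variable {R}

/-- Linear maps between coordinate spaces lift along the residue map. -/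
theorem exists_lift_linear {α β : Type} [Fintype α] [DecidableEq α]
    (f₀ : (α → k) →ₗ[k] (β → k)) :
    ∃ f : (α → R) →ₗ[R] (β → R), ∀ u, π ∘ f u = f₀ (π ∘ u) := by
  choose M hM using fun a b => residue_surjective (f₀ (Pi.single a 1) b)
  refine ⟨(Pi.basisFun R α).constr R (fun a b => M a b), fun u => funext fun b => ?_⟩
  conv_rhs => rw [pi_eq_sum_univ' (π ∘ u)]
  simp [Module.Basis.constr_apply_fintype, map_sum, hM, Finset.sum_apply]

/-- An endomorphism congruent to the identity is bijective. -/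
theorem bijective_of_congr_id {α : Type} [Fintype α] [DecidableEq α] (f : (α → R) →ₗ[R] (α → R))
    (hf : ∀ u, π ∘ f u = π ∘ u) : Function.Bijective f := by
  rw [← Module.End.isUnit_iff, LinearMap.isUnit_iff_isUnit_det, ← LinearMap.det_toMatrix']
  apply isUnit_of_map_unit (π)
  rw [RingHom.map_det]
  have : (RingHom.mapMatrix π) (LinearMap.toMatrix' f) = 1 := by
    ext i j
    simp only [RingHom.mapMatrix_apply, Matrix.map_apply, LinearMap.toMatrix'_apply]
    exact (congr_fun (hf _) i).trans (by simp [Matrix.one_apply, Pi.single_apply, eq_comm, apply_ite])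
  rw [this, Matrix.det_one]
  exact isUnit_one

/-- Associative unital structure constants on the residue field with a separability element lift
to associative unital structure constants. -/
theorem exists_assoc_lift {ι : Type} [Fintype ι] [DecidableEq ι] (μ₀ : ι × ι × ι → k)
    (hassoc : ∀ x y z, LB μ₀ (LB μ₀ x y) z = LB μ₀ x (LB μ₀ y z))
    (hexact : ∀ f, D3 μ₀ f = 0 → ∃ g, -(assocBil μ₀ g + assocBil g μ₀) = f)
    (one : ι → k) (hl : ∀ x, LB μ₀ one x = x) (hr : ∀ x, LB μ₀ x one = x) :
    ∃ (μ : ι × ι × ι → R) (e₁ : ι → R), π ∘ μ = μ₀ ∧ π ∘ e₁ = one ∧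
      (∀ x y z, LB μ (LB μ x y) z = LB μ x (LB μ y z)) ∧
      (∀ x, LB μ e₁ x = x) ∧ (∀ x, LB μ x e₁ = x) := by
  let d2 : (ι × ι × ι → k) →ₗ[k] (ι × ι × ι × ι → k) := -(assocBil μ₀ + (assocBil).flip μ₀)
  let Z := LinearMap.ker (D3 μ₀)
  obtain ⟨W, hW⟩ := Z.exists_isCompl
  let pZ : (ι × ι × ι × ι → k) →ₗ[k] Z := Z.projectionOnto W hW
  let pW : (ι × ι × ι × ι → k) →ₗ[k] W := W.projectionOnto Z hW.symm
  have hsum : ∀ f, (pZ f : ι × ι × ι × ι → k) + (pW f) = f := fun f =>
    Submodule.projection_add_projection_eq_self hW f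
  -- a lift of `d2` on cocycles
  let bZ := Module.Free.chooseBasis k Z
  choose g hg using fun i => hexact (bZ i) (LinearMap.mem_ker.mp (bZ i).2)
  let h₀ : (ι × ι × ι × ι → k) →ₗ[k] (ι × ι × ι → k) := bZ.constr k g ∘ₗ pZ
  have hd2 : ∀ f, d2 (h₀ f) = pZ f := by
    intro f
    refine LinearMap.congr_fun (f := d2 ∘ₗ bZ.constr k g) (g := Z.subtype) (bZ.ext fun i => ?_) (pZ f)
    simp only [LinearMap.comp_apply, Module.Basis.constr_basis, Submodule.subtype_apply, d2,
      LinearMap.neg_apply, LinearMap.add_apply, LinearMap.flip_apply]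
    exact hg i
  let bW := Module.finBasis k W
  let q := Module.finrank k W
  let a₀ : (Fin q → k) →ₗ[k] (ι × ι × ι × ι → k) := W.subtype ∘ₗ bW.equivFun.symm.toLinearMap
  let b₀ : (ι × ι × ι × ι → k) →ₗ[k] (Fin q → k) := bW.equivFun.toLinearMap ∘ₗ pW
  have hab : ∀ f, a₀ (b₀ f) = pW f := fun f => by simp [a₀, b₀]
  have hDa : Function.Injective (D3 μ₀ ∘ₗ a₀) := by
    rw [← LinearMap.ker_eq_bot, LinearMap.ker_eq_bot']
    intro v hv
    have h2 : bW.equivFun.symm v = 0 := Subtype.ext (Submodule.disjoint_def.mp hW.disjoint _ hv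
      (bW.equivFun.symm v).2)
    exact bW.equivFun.symm.map_eq_zero_iff.mp h2
  obtain ⟨L₀, hL₀⟩ := LinearMap.exists_leftInverse_of_injective _ (LinearMap.ker_eq_bot.mpr hDa)
  obtain ⟨h, hh⟩ := exists_lift_linear h₀
  obtain ⟨a, ha⟩ := exists_lift_linear a₀
  obtain ⟨b, hb⟩ := exists_lift_linear b₀
  obtain ⟨Li, hLi⟩ := exists_lift_linear L₀
  choose μ₁ hμ₁ using fun p => residue_surjective (μ₀ p)
  have hμ₁' : π ∘ μ₁ = μ₀ := funext hμ₁
  let L : (ι × ι × ι × ι → R) →ₗ[R] (ι × ι × ι × ι → R) :=
    assocBil μ₁ ∘ₗ h + (assocBil).flip μ₁ ∘ₗ h - a ∘ₗ b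
  haveI : HenselianRing R (maximalIdeal R) := inferInstance
  obtain ⟨u, hu, hz⟩ := exists_zero_quadratic (maximalIdeal R) (assocBil μ₁ μ₁) (fun j => by
      rw [← residue_eq_zero_iff, ← Function.comp_apply (f := π), π_assocBil, hμ₁']
      obtain ⟨i, i', l, o⟩ := j
      have := congr_fun (assocBil_slice μ₀ μ₀ i i' l) o
      rw [hassoc, sub_self] at this
      exact this) L (fun v j => by
      change π (L v j) = - π (v j)
      simp only [L, LinearMap.sub_apply, LinearMap.add_apply, LinearMap.comp_apply,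
        LinearMap.flip_apply, Pi.sub_apply, Pi.add_apply, map_sub, map_add]
      have e1 := congr_fun (π_assocBil π μ₁ (h v)) j
      have e2 := congr_fun (π_assocBil π (h v) μ₁) j
      have e3 := congr_fun (ha (b v)) j
      simp only [Function.comp_apply, hh, hμ₁', hb] at e1 e2 e3
      rw [e1, e2, e3, hab]
      have e4 := congr_fun (hd2 (π ∘ v)) j
      have e5 := congr_fun (hsum (π ∘ v)) j
      simp only [d2, LinearMap.neg_apply, LinearMap.add_apply, LinearMap.flip_apply, Pi.neg_apply,
        Pi.add_apply, Function.comp_apply] at e4 e5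
      rw [← e5, ← e4]
      ring)
    ((assocBil).compl₁₂ h h)
  let μ := μ₁ + h u
  have hμ : π ∘ μ = μ₀ := by
    have hu0 : π ∘ u = 0 := funext fun i => (residue_eq_zero_iff _).mpr (hu i)
    funext p
    have := congr_fun (hh u) p
    simp only [hu0, map_zero, Pi.zero_apply, Function.comp_apply] at this
    simp [μ, this, hμ₁]
  have hA : assocBil μ μ = a (b u) := by
    rw [← sub_eq_zero, ← hz]
    simp only [μ, L, map_add, LinearMap.add_apply, LinearMap.sub_apply, LinearMap.comp_apply,
      LinearMap.flip_apply, LinearMap.compl₁₂_apply]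
    abel
  have hbu : b u = 0 := by
    have h5 := D3_assocBil μ
    rw [hA] at h5
    have hbij := bijective_of_congr_id (Li ∘ₗ D3 μ ∘ₗ a) fun v => by
      simp only [LinearMap.comp_apply, hLi, π_D3, ha, hμ]
      exact LinearMap.congr_fun hL₀ _
    refine hbij.injective ?_
    simp only [LinearMap.comp_apply, h5, map_zero]
  have hAss : ∀ x y z, LB μ (LB μ x y) z = LB μ x (LB μ y z) := by
    intro x y z
    rw [← sub_eq_zero, ← LT_assocBil, hA, hbu]
    simp
  choose v hv using fun p => residue_surjective (one p)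
  have hv' : π ∘ v = one := funext hv
  have hbl := bijective_of_congr_id (LB μ v) fun x => by rw [π_LB, hμ, hv', hl]
  have hbr := bijective_of_congr_id ((LB μ).flip v) fun x => by
    rw [LinearMap.flip_apply, π_LB, hμ, hv', hr]
  obtain ⟨e₁, he₁⟩ := hbl.surjective v
  obtain ⟨e₂, he₂⟩ := hbr.surjective v
  rw [LinearMap.flip_apply] at he₂
  have hel : ∀ x, LB μ e₁ x = x := fun x => hbl.injective (by rw [← hAss, he₁])
  have her : ∀ x, LB μ x e₂ = x := fun x => hbr.injective (by
    simp only [LinearMap.flip_apply]; rw [hAss, he₂])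
  have he : e₁ = e₂ := by rw [← her e₁, hel e₂]
  refine ⟨μ, e₁, hμ, ?_, hAss, hel, fun x => by rw [he, her]⟩
  have := congr_arg (π ∘ ·) he₁
  simp only [π_LB, hμ, hv', hl] at this
  exact this

/-- Coordinates as a ring. -/
@[nolint unusedArguments]
def Alg {R : Type u} [CommRing R] {ι : Type} [Fintype ι] [DecidableEq ι] (_μ : ι × ι × ι → R) :
    Type u := ι → R

instance {R : Type u} [CommRing R] {ι : Type} [Fintype ι] [DecidableEq ι] (μ : ι × ι × ι → R) :
    AddCommGroup (Alg μ) := inferInstanceAs (AddCommGroup (ι → R))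

instance {R : Type u} [CommRing R] {ι : Type} [Fintype ι] [DecidableEq ι] (μ : ι × ι × ι → R) :
    Module R (Alg μ) := inferInstanceAs (Module R (ι → R))

/-- A separability element of a central simple algebra. -/
theorem exists_separability {K : Type u} [Field K] (A : Type v) [Ring A] [Algebra K A] [IsAzumaya K A]
    [Nontrivial A] :
    ∃ (n : ℕ) (xs ys : Fin n → A), ∑ t, xs t * ys t = 1 ∧
      ∀ (Φ : A →ₗ[K] A →ₗ[K] A) (a : A), ∑ t, Φ (a * xs t) (ys t) = ∑ t, Φ (xs t) (ys t * a) := by
  obtain ⟨φ, hφ⟩ := LinearMap.exists_leftInverse_of_injective (Algebra.linearMap K A)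
    (LinearMap.ker_eq_bot.mpr (algebraMap K A).injective)
  obtain ⟨e, he⟩ := (IsAzumaya.bij (R := K) (A := A)).surjective
    ((Algebra.linearMap K A) ∘ₗ φ)
  obtain ⟨n, s, hs⟩ : ∃ (n : ℕ) (s : Fin n → A × Aᵐᵒᵖ), e = ∑ t, (s t).1 ⊗ₜ[K] (s t).2 := by
    obtain ⟨S, hS⟩ := TensorProduct.exists_finset (R := K) e
    refine ⟨S.card, fun t => (S.equivFin.symm t).1, ?_⟩
    rw [hS, ← Finset.sum_coe_sort S]
    exact (Equiv.sum_comp S.equivFin.symm (fun i : S => (i : A × Aᵐᵒᵖ).1 ⊗ₜ[K] (i : A × Aᵐᵒᵖ).2)).symm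
  have hz : ∀ z, ∑ t, (s t).1 * z * unop (s t).2 = algebraMap K A (φ z) := fun z => by
    have := LinearMap.congr_fun he z
    rw [hs, map_sum, LinearMap.sum_apply] at this
    simpa using this
  refine ⟨n, fun t => (s t).1, fun t => unop (s t).2, ?_, fun Φ a => ?_⟩
  · have := hz 1
    simp only [mul_one] at this
    rw [this]
    have h1 : φ (algebraMap K A 1) = 1 := LinearMap.congr_fun hφ 1
    rw [map_one] at h1
    rw [h1, map_one]
  · have hcomm : (a ⊗ₜ[K] (1 : Aᵐᵒᵖ)) * e = ((1 : A) ⊗ₜ[K] op a) * e := by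
      refine (IsAzumaya.bij (R := K) (A := A)).injective ?_
      ext z
      simp only [map_mul, he, Module.End.mul_apply, AlgHom.mulLeftRight_apply, unop_one, unop_op,
        mul_one, one_mul, LinearMap.comp_apply, Algebra.linearMap_apply]
      exact (Algebra.commutes _ _).symm
    have := congr_arg (TensorProduct.lift (Φ.compl₂ (MulOpposite.opLinearEquiv K).symm.toLinearMap)) hcomm
    simpa [hs, Finset.mul_sum, map_sum] using this

theorem exists_azumaya_lift (A₀ : Type u) [Ring A₀] [Algebra k A₀] [Algebra.IsCentral k A₀]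
    [IsSimpleRing A₀] [FiniteDimensional k A₀] :
    ∃ (A : Type u) (_ : Ring A) (_ : Algebra R A), IsAzumaya R A ∧
      Nonempty ((k ⊗[R] A) ≃ₐ[k] A₀) := by
  haveI : IsAzumaya k A₀ := Groth.L11.Az.isAzumaya_of_csa
  let bA := (Module.finBasis k A₀).equivFun
  let ι := Fin (Module.finrank k A₀)
  let μ₀ : ι × ι × ι → k := fun p => bA (bA.symm (e p.1) * bA.symm (e p.2.1)) p.2.2
  have hμ₀ : ∀ x y, LB μ₀ x y = bA (bA.symm x * bA.symm y) := by
    have h1 : ∀ i y, LB μ₀ (e i) y = bA (bA.symm (e i) * bA.symm y) := by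
      intro i y
      refine LinearMap.congr_fun (g := bA.toLinearMap ∘ₗ LinearMap.mulLeft k (bA.symm (e i)) ∘ₗ bA.symm.toLinearMap)
        ((Pi.basisFun k ι).ext fun j => ?_) y
      rw [Pi.basisFun_apply, LB_basis]
      rfl
    intro x y
    refine LinearMap.congr_fun (f := (LB μ₀).flip y)
      (g := bA.toLinearMap ∘ₗ LinearMap.mulRight k (bA.symm y) ∘ₗ bA.symm.toLinearMap)
      ((Pi.basisFun k ι).ext fun i => ?_) x
    rw [Pi.basisFun_apply]
    exact h1 i y
  have hassoc : ∀ x y z, LB μ₀ (LB μ₀ x y) z = LB μ₀ x (LB μ₀ y z) := fun x y z => by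
    simp [hμ₀, mul_assoc]
  have hexact : ∀ f, D3 μ₀ f = 0 → ∃ g, -(assocBil μ₀ g + assocBil g μ₀) = f := by
    obtain ⟨n, xs, ys, hone, hcomm⟩ := exists_separability (K := k) A₀
    refine exists_d2_eq μ₀ hassoc (fun t => bA (xs t)) (fun t => bA (ys t)) (bA 1)
      (by simp [hμ₀, ← map_sum, hone]) (by simp [hμ₀]) fun Φ x => ?_
    have := hcomm ((Φ.compl₁₂ bA.toLinearMap bA.toLinearMap).compr₂ bA.symm.toLinearMap) (bA.symm x)
    have := congr_arg bA this
    simpa [hμ₀, map_sum] using this
  obtain ⟨μ, e₁, hμ, he₁, hA, hel, her⟩ := exists_assoc_lift μ₀ hassoc hexact (bA 1)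
    (fun x => by simp [hμ₀]) (fun x => by simp [hμ₀])
  let rng : Ring (Alg μ) :=
    { (inferInstance : AddCommGroup (Alg μ)) with
      mul := fun x y => LB μ x y
      one := e₁
      mul_assoc := hA
      one_mul := hel
      mul_one := her
      left_distrib := fun x y z => map_add (LB μ x) y z
      right_distrib := fun x y z => LinearMap.congr_fun (map_add (LB μ) x y) z
      zero_mul := fun x => LinearMap.congr_fun (map_zero (LB μ)) x
      mul_zero := fun x => map_zero (LB μ x) }
  letI := rng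
  letI alg : Algebra R (Alg μ) := Algebra.ofModule
    (fun r x y => LinearMap.congr_fun (map_smul (LB μ) r x) y) (fun r x y => map_smul (LB μ x) r y)
  haveI : Module.Finite R (Alg μ) := inferInstanceAs (Module.Finite R (ι → R))
  haveI : Module.Free R (Alg μ) := inferInstanceAs (Module.Free R (ι → R))
  letI : Algebra R A₀ := Algebra.compHom A₀ (algebraMap R k)
  haveI : IsScalarTower R k A₀ := IsScalarTower.of_algebraMap_eq fun _ => rfl
  let f : Alg μ →ₐ[R] A₀ := AlgHom.ofLinearMap
    { toFun := fun x => bA.symm (π ∘ (x : ι → R))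
      map_add' := fun x y => by
        rw [show π ∘ ((x + y : Alg μ) : ι → R) = π ∘ (x : ι → R) + π ∘ (y : ι → R) from
          funext fun _ => map_add π _ _]
        exact map_add _ _ _
      map_smul' := fun r x => by
        rw [show π ∘ ((r • x : Alg μ) : ι → R) = π r • (π ∘ (x : ι → R)) from
          funext fun _ => map_mul π _ _]
        rw [map_smul]
        rfl }
    (show bA.symm (π ∘ e₁) = 1 by rw [he₁, LinearEquiv.symm_apply_apply])
    (fun x y => show bA.symm (π ∘ LB μ x y) = bA.symm (π ∘ x) * bA.symm (π ∘ y) by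
      rw [π_LB, hμ, hμ₀, LinearEquiv.symm_apply_apply])
  let F : k ⊗[R] Alg μ →ₐ[k] A₀ := Algebra.TensorProduct.lift (Algebra.ofId k A₀) f
    (fun c x => (Algebra.commutes c (f x)))
  have hFs : Function.Surjective F := by
    intro z
    choose x hx using fun i => residue_surjective (bA z i)
    refine ⟨1 ⊗ₜ x, ?_⟩
    simp only [F, Algebra.TensorProduct.lift_tmul, map_one, one_mul]
    show bA.symm (π ∘ x) = z
    rw [show π ∘ x = bA z from funext hx, LinearEquiv.symm_apply_apply]
  have hdim : Module.finrank k (k ⊗[R] Alg μ) = Module.finrank k A₀ := by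
    rw [Module.finrank_baseChange]
    exact Module.finrank_fin_fun R
  have hFb : Function.Bijective F :=
    ⟨(LinearMap.injective_iff_surjective_of_finrank_eq_finrank hdim (f := F.toLinearMap)).mpr hFs, hFs⟩
  let E := AlgEquiv.ofBijective F hFb
  refine ⟨Alg μ, inferInstance, inferInstance, ?_, ⟨E⟩⟩
  rw [Groth.L11.Az.isAzumaya_iff_residueField_local]
  haveI : IsAzumaya k (k ⊗[R] Alg μ) := IsAzumaya.of_AlgEquiv k A₀ (k ⊗[R] Alg μ) E.symm
  exact ⟨inferInstance, @Groth.L11.Az.isSimpleRing_of_isAzumaya k _ _ _ _ _⟩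

end Groth.L11.AzLift
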